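import Groth.Agent.HartogsAffine.Basic
import Mathlib.AlgebraicGeometry.Gluing
import Mathlib.AlgebraicGeometry.Restrict

/-! # Extension of morphisms to affine targets across depth two -/

set_option autoImplicit false
set_option linter.style.haveILetI false

universe u

open CategoryTheory CategoryTheory.Limits AlgebraicGeometry

namespace Groth.Agent.Rat20Lib

variable {X Y : Scheme.{u}}

theorem bijective_appTop {W : Scheme.{u}} [IsAffine W] [IsLocallyNoetherian W] (V : W.Opens)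
    (h : ∀ x : W, x ∉ V → (2 : ℕ∞) ≤ LocCoh.depth (W.presheaf.stalk x) (W.presheaf.stalk x)) :
    Function.Bijective V.ι.appTop := by
  have hb := HartogsAffine.bijective_res V h
  have heq : V.ι ''ᵁ ⊤ = V := V.ι_image_top
  rw [Scheme.Opens.ι_appTop]
  have key : ∀ (V' : W.Opens) (_ : V' = V) (le : V' ≤ ⊤),
      Function.Bijective (W.presheaf.map (homOfLE le).op) := by
    rintro V' rfl le
    exact hb
  exact key _ heq le_top

theorem bijective_precomp {W V : Scheme.{u}} [IsAffine W] [IsAffine Y] (j : V ⟶ W)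
    (h : Function.Bijective j.appTop) : Function.Bijective (fun g : W ⟶ Y => j ≫ g) := by
  haveI : IsIso j.appTop := (ConcreteCategory.isIso_iff_bijective _).2 h
  constructor
  · intro g g' hgg
    apply ext_of_isAffine
    have h1 := congrArg (fun k : V ⟶ Y => k.appTop) hgg
    simp only [Scheme.Hom.comp_appTop] at h1
    exact (cancel_mono j.appTop).1 h1
  · intro f
    have key : ∀ φ : Γ(Y, ⊤) ⟶ Γ(W, ⊤), (W.toSpecΓ ≫ Spec.map φ ≫ Y.isoSpec.inv).appTop = φ := by
      intro φ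
      simp [Scheme.toSpecΓ_appTop, Scheme.isoSpec, Category.assoc]
    refine ⟨W.toSpecΓ ≫ Spec.map (f.appTop ≫ inv j.appTop) ≫ Y.isoSpec.inv, ext_of_isAffine ?_⟩
    rw [Scheme.Hom.comp_appTop, key, Category.assoc, IsIso.inv_hom_id, Category.comp_id]

variable [IsAffine Y] (U : X.Opens) (f : (U : Scheme.{u}) ⟶ Y)

theorem existsUnique_local [IsLocallyNoetherian X]
    (hU : ∀ x : X, x ∉ U → (2 : ℕ∞) ≤ LocCoh.depth (X.presheaf.stalk x) (X.presheaf.stalk x))
    {W : Scheme.{u}} [IsAffine W] (j : W ⟶ X) [IsOpenImmersion j] :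
    ∃! g : W ⟶ Y, (j ⁻¹ᵁ U).ι ≫ g = (j ∣_ U) ≫ f := by
  haveI : IsLocallyNoetherian W := isLocallyNoetherian_of_isOpenImmersion j
  have hb := bijective_precomp (Y := Y) (j ⁻¹ᵁ U).ι (bijective_appTop (j ⁻¹ᵁ U) fun w hw => by
    rw [HartogsAffine.depth_congr_ringEquiv (asIso (j.stalkMap w)).commRingCatIsoToRingEquiv]
    exact hU (j w) hw)
  obtain ⟨g, hg⟩ := hb.2 ((j ∣_ U) ≫ f)
  exact ⟨g, hg, fun g' hg' => hb.1 (hg'.trans hg.symm)⟩

omit [IsAffine Y] in
theorem isSolution_comp {W T : Scheme.{u}} (j : W ⟶ X) (k : T ⟶ X) (a : T ⟶ W)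
    (ha : a ≫ j = k) (g : W ⟶ Y) (hg : (j ⁻¹ᵁ U).ι ≫ g = (j ∣_ U) ≫ f) :
    (k ⁻¹ᵁ U).ι ≫ a ≫ g = (k ∣_ U) ≫ f := by
  have hsq := isPullback_morphismRestrict j U
  let b : (k ⁻¹ᵁ U : Scheme.{u}) ⟶ (j ⁻¹ᵁ U) := hsq.flip.lift ((k ⁻¹ᵁ U).ι ≫ a) (k ∣_ U)
    (by rw [Category.assoc, ha, morphismRestrict_ι])
  have h1 : b ≫ (j ⁻¹ᵁ U).ι = (k ⁻¹ᵁ U).ι ≫ a := hsq.flip.lift_fst _ _ _
  have h2 : b ≫ (j ∣_ U) = k ∣_ U := hsq.flip.lift_snd _ _ _
  rw [← reassoc_of% h1, hg, reassoc_of% h2]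

theorem existsUnique_extension [IsLocallyNoetherian X]
    (hU : ∀ x : X, x ∉ U → (2 : ℕ∞) ≤ LocCoh.depth (X.presheaf.stalk x) (X.presheaf.stalk x)) :
    ∃! g : X ⟶ Y, U.ι ≫ g = f := by
  classical
  choose g hg hgu using fun i : X.affineCover.I₀ => existsUnique_local U f hU (X.affineCover.f i)
  have hglue : ∀ i j, pullback.fst (X.affineCover.f i) (X.affineCover.f j) ≫ g i =
      pullback.snd _ _ ≫ g j := by
    intro i j
    refine Scheme.Cover.hom_ext (pullback (X.affineCover.f i) (X.affineCover.f j)).affineCover _ _ fun t => ?_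
    let c := (pullback (X.affineCover.f i) (X.affineCover.f j)).affineCover.f t
    haveI : IsAffine ((pullback (X.affineCover.f i) (X.affineCover.f j)).affineCover.X t) := inferInstance
    let k := (c ≫ pullback.fst _ _) ≫ X.affineCover.f i
    have huniq := existsUnique_local U f hU k
    refine huniq.unique ?_ ?_
    · rw [← Category.assoc c]
      exact isSolution_comp U f (X.affineCover.f i) k _ rfl (g i) (hg i)
    · rw [← Category.assoc c]
      exact isSolution_comp U f (X.affineCover.f j) k _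
        (by simp only [k, Category.assoc, pullback.condition]) (g j) (hg j)
  refine ⟨X.affineCover.glueMorphisms g hglue, ?_, fun g' hg' => ?_⟩
  · refine Scheme.Cover.hom_ext (X.affineCover.pullback₁ U.ι) _ _ fun i => ?_
    show pullback.fst U.ι (X.affineCover.f i) ≫ U.ι ≫ _ = pullback.fst U.ι (X.affineCover.f i) ≫ f
    rw [pullback.condition_assoc, Scheme.Cover.ι_glueMorphisms]
    have hsq := isPullback_morphismRestrict (X.affineCover.f i) U
    let b := hsq.flip.lift (pullback.snd U.ι (X.affineCover.f i)) (pullback.fst U.ι (X.affineCover.f i))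
      pullback.condition.symm
    have h1 : b ≫ (X.affineCover.f i ⁻¹ᵁ U).ι = pullback.snd U.ι (X.affineCover.f i) := hsq.flip.lift_fst _ _ _
    have h2 : b ≫ (X.affineCover.f i ∣_ U) = pullback.fst U.ι (X.affineCover.f i) := hsq.flip.lift_snd _ _ _
    rw [← h1, Category.assoc, hg, reassoc_of% h2]
  · refine Scheme.Cover.hom_ext X.affineCover _ _ fun i => ?_
    rw [Scheme.Cover.ι_glueMorphisms]
    refine hgu i _ ?_
    show (X.affineCover.f i ⁻¹ᵁ U).ι ≫ X.affineCover.f i ≫ g' = _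
    rw [← morphismRestrict_ι_assoc, hg']

end Groth.Agent.Rat20Lib
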